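import Cfsg.Agent.MatModule.LargeSylow
import Cfsg.Prelude.Def_Classical
import Cfsg.Agent.S0246
import Cfsg.Agent.S0279
import Mathlib

/-!
Elements of order 65 in some groups over the fields with 8 and 64 elements.
-/

set_option autoImplicit false

namespace Cfsg.Agent.E7SixtyFive

open Matrix

theorem charTwo {F : Type*} [Field F] [Fintype F] {n : ℕ} (h : Fintype.card F = 2 ^ n) :
    CharP F 2 := by
  haveI := Fact.mk Nat.prime_two
  exact charP_of_card_eq_prime_pow (f := n) (by rw [← h])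

/-- An element of order prime to the exponent of a normal subgroup keeps its order. -/
theorem orderOf_mk {G : Type*} [Group G] (N : Subgroup G) [N.Normal] {g : G}
    (hcop : ∀ z ∈ N, z ^ 65 = 1 → z = 1) (hg : orderOf g = 65) :
    orderOf (QuotientGroup.mk g : G ⧸ N) = 65 := by
  set m := orderOf (QuotientGroup.mk g : G ⧸ N) with hm
  have h1 : g ^ m ∈ N := by
    rw [← QuotientGroup.eq_one_iff, QuotientGroup.mk_pow, hm, pow_orderOf_eq_one]
  have h2 := hcop _ h1 (by rw [← pow_mul, mul_comm, pow_mul, ← hg, pow_orderOf_eq_one, one_pow])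
  refine Nat.dvd_antisymm ?_ (hg ▸ orderOf_dvd_of_pow_eq_one h2)
  refine orderOf_dvd_of_pow_eq_one ?_
  rw [← QuotientGroup.mk_pow, ← hg, pow_orderOf_eq_one, QuotientGroup.mk_one]

theorem eq_one_of_units_pow {F : Type*} [Field F] [Fintype F] {c : F} {a : ℕ}
    (h65 : c ^ 65 = 1) (ha : c ^ a = 1) (hcop : Nat.Coprime 65 a) : c = 1 := by
  have h := pow_gcd_eq_one.2 ⟨h65, ha⟩
  rwa [hcop.gcd_eq_one, pow_one] at h

section SL

variable {n : ℕ} {F : Type*} [Field F] [Fintype F]

theorem scalar_center (hcop : Nat.Coprime 65 (n + 1))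
    (z : Matrix.SpecialLinearGroup (Fin (n + 1)) F) (hz : z ∈ Subgroup.center _) (h65 : z ^ 65 = 1) :
    z = 1 := by
  obtain ⟨r, hr, hzr⟩ := Matrix.SpecialLinearGroup.mem_center_iff.1 hz
  rw [Fintype.card_fin] at hr
  have e : r ^ 65 = 1 := by
    have := congrArg (fun x : Matrix.SpecialLinearGroup (Fin (n + 1)) F =>
      (x : Matrix (Fin (n + 1)) (Fin (n + 1)) F) 0 0) h65
    simp only [Matrix.SpecialLinearGroup.coe_pow, ← hzr, Matrix.SpecialLinearGroup.coe_one,
      ← map_pow] at this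
    simpa using this
  refine Subtype.ext ?_
  rw [← hzr, eq_one_of_units_pow e hr hcop, map_one]
  rfl

theorem exists_psl (hcop : Nat.Coprime 65 (n + 1)) {g : Matrix.SpecialLinearGroup (Fin (n + 1)) F}
    (hg : orderOf g = 65) :
    ∃ x : Matrix.ProjectiveSpecialLinearGroup (Fin (n + 1)) F, orderOf x = 65 :=
  ⟨QuotientGroup.mk g, orderOf_mk _ (fun z hz h65 => scalar_center hcop z hz h65) hg⟩

end SL

/-- The symplectic group inside the special linear group. -/
noncomputable def spToSL (m : ℕ) (F : Type*) [Field F] :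
    Matrix.symplecticGroup (Fin m) F →* Matrix.SpecialLinearGroup (Fin (2 * m)) F where
  toFun g := ⟨Matrix.reindex (finSumFinEquiv.trans (finCongr (two_mul m).symm))
      (finSumFinEquiv.trans (finCongr (two_mul m).symm)) g.1,
    by rw [Matrix.det_reindex_self]; exact SymplecticGroup.det_eq_one g.2⟩
  map_one' := Subtype.ext (Matrix.submatrix_one_equiv _)
  map_mul' g h := Subtype.ext (by
    show Matrix.reindex _ _ (g.1 * h.1) = Matrix.reindex _ _ g.1 * Matrix.reindex _ _ h.1
    simp only [Matrix.reindex_apply, Matrix.submatrix_mul_equiv])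

theorem spToSL_injective (m : ℕ) (F : Type*) [Field F] : Function.Injective (spToSL m F) :=
  fun _ _ h => Subtype.ext ((Matrix.reindex _ _).injective (congrArg Subtype.val h))

theorem exists_psl_two {F : Type*} [Field F] [Fintype F] (h : Fintype.card F = 64) :
    ∃ x : Matrix.ProjectiveSpecialLinearGroup (Fin 2) F, orderOf x = 65 := by
  obtain ⟨g, hg⟩ := Cfsg.Agent.LargeSylow.exists_sp_orderOf (h := 1) (k := 65) h one_pos (by norm_num)
  exact exists_psl (n := 1) (by norm_num) (g := spToSL 1 F g)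
    (by rw [orderOf_injective _ (spToSL_injective 1 F), hg])

theorem exists_psl_four {F : Type*} [Field F] [Fintype F] (h : Fintype.card F = 8) :
    ∃ x : Matrix.ProjectiveSpecialLinearGroup (Fin 4) F, orderOf x = 65 := by
  obtain ⟨g, hg⟩ := Cfsg.Agent.LargeSylow.exists_sp_orderOf (h := 2) (k := 65) h two_pos (by norm_num)
  exact exists_psl (n := 3) (by norm_num) (g := spToSL 2 F g)
    (by rw [orderOf_injective _ (spToSL_injective 2 F), hg])

theorem exists_psp {m : ℕ} {F : Type*} [Field F] [Fintype F] (h : Fintype.card F = 8) (hm : 2 ≤ m) :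
    ∃ x : Cfsg.PSp m F, orderOf x = 65 := by
  classical
  obtain ⟨g₀, hg₀⟩ := Cfsg.Agent.LargeSylow.exists_sp_orderOf (h := 2) (k := 65) h two_pos (by norm_num)
  obtain ⟨ψ, hψ⟩ := Cfsg.Agent.LargeSylow.exists_sp_blocks (F := F) (d := 2) (a := 1) (n := m) (by omega)
  have hg : orderOf (ψ fun _ => g₀) = 65 := by
    rw [orderOf_injective _ hψ, ← hg₀]
    exact orderOf_injective ⟨⟨fun x _ => x, rfl⟩, fun _ _ => rfl⟩
      (fun x y e => congrFun e (0 : Fin 1)) g₀
  haveI := charTwo (F := F) (n := 3) h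
  refine ⟨QuotientGroup.mk (ψ fun _ => g₀), orderOf_mk _ (fun z hz h65 => ?_) hg⟩
  have hc := Cfsg.Agent.S0246.result h m (by omega)
  rw [show Nat.gcd 2 (8 - 1) = 1 by norm_num] at hc
  have : Subgroup.center (Matrix.symplecticGroup (Fin m) F) = ⊥ := Subgroup.eq_bot_of_card_eq _ hc
  rwa [this, Subgroup.mem_bot] at hz

/-- A symplectic element inside the unitary group. -/
theorem exists_psu {F : Type*} [Field F] [Fintype F] (h : Fintype.card F = 64) :
    ∃ x : Cfsg.PSU 4 F 8, orderOf x = 65 := by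
  classical
  haveI : Fact (Nat.Prime 2) := ⟨Nat.prime_two⟩
  haveI := charTwo (F := F) (n := 6) h
  letI : Algebra (ZMod 2) F := ZMod.algebra F 2
  let K := GaloisField 2 3
  letI : Fintype K := Fintype.ofFinite K
  have hK : Fintype.card K = 8 := by
    rw [← Nat.card_eq_fintype_card, GaloisField.card 2 3 (by norm_num)]; norm_num
  have hfr : Module.finrank (ZMod 2) F = 6 := by
    have e := Module.card_eq_pow_finrank (K := ZMod 2) (V := F)
    rw [h, ZMod.card] at e
    exact (Nat.pow_right_injective le_rfl e).symm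
  obtain ⟨φ⟩ := FiniteField.nonempty_algHom_of_finrank_dvd (F := ZMod 2) (K := K) (L := F)
    (by rw [GaloisField.finrank 2 (by norm_num), hfr]; norm_num)
  set ι : K →+* F := φ.toRingHom with hι
  have hfix : ∀ x : K, ι x ^ 8 = ι x := fun x => by
    rw [← map_pow, ← hK, FiniteField.pow_card]
  -- an element of relative trace one
  obtain ⟨c, hc⟩ : ∃ c : F, c ^ 8 + c ≠ 0 := by
    by_contra! hall
    have := Polynomial.card_le_degree_of_subset_roots (R := F)
      (p := Polynomial.X ^ 8 + Polynomial.X) (Z := Finset.univ) (fun x _ => by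
        rw [Polynomial.mem_roots (fun e => by
          have := congrArg (fun p : Polynomial F => p.coeff 1) e
          simp [Polynomial.coeff_X] at this)]
        simpa using hall x)
    rw [Finset.card_univ, h] at this
    have hd : ((Polynomial.X : Polynomial F) ^ 8 + Polynomial.X).natDegree = 8 := by
      rw [Polynomial.natDegree_add_eq_left_of_natDegree_lt (by simp)]; simp
    omega
  have h64 : ∀ x : F, (x ^ 8) ^ 8 = x := fun x => by
    rw [← pow_mul, show 8 * 8 = 64 from rfl, ← h, FiniteField.pow_card]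
  have hfr8 : ∀ x y : F, (x + y) ^ 8 = x ^ 8 + y ^ 8 := fun x y => add_pow_char_pow x y (p := 2) (n := 3)
  obtain ⟨a, ha⟩ : ∃ a : F, a ^ 8 = a + 1 := by
    refine ⟨c / (c ^ 8 + c), ?_⟩
    have h1 : (c / (c ^ 8 + c)) ^ 8 + c / (c ^ 8 + c) = 1 := by
      rw [div_pow, hfr8, h64, add_comm c, ← add_div, div_self hc]
    linear_combination h1 - CharTwo.add_self_eq_zero (c / (c ^ 8 + c))
  -- the change of basis
  let f : Fin 4 → Fin 2 ⊕ Fin 2 := ![.inl 0, .inr 0, .inl 1, .inr 1]
  let P : Matrix (Fin 4) (Fin 2 ⊕ Fin 2) F := Matrix.of fun r s =>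
    Sum.elim (fun i => ![![1, 0], ![1, 0], ![0, 1], ![0, 1]] r i)
      (fun i => ![![a, 0], ![a + 1, 0], ![0, a], ![0, a + 1]] r i) s
  let Q : Matrix (Fin 2 ⊕ Fin 2) (Fin 4) F := Matrix.of fun s r =>
    Sum.elim (fun i => ![![a + 1, a, 0, 0], ![0, 0, a + 1, a]] i r)
      (fun i => ![![1, 1, 0, 0], ![0, 0, 1, 1]] i r) s
  have h2 : (2 : F) = 0 := CharTwo.two_eq_zero
  have h4 : (4 : F) = 0 := by rw [show (4 : F) = 2 * 2 by norm_num, h2, mul_zero]
  have hQP : Q * P = 1 := by
    ext (i | i) (j | j) <;> fin_cases i <;> fin_cases j <;>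
      simp [Q, P, Matrix.mul_apply, Fin.sum_univ_four, Matrix.one_apply] <;>
      (rw [← sub_eq_zero]; ring_nf; simp [h2, h4])
  have hPQ : P * Q = 1 := (Matrix.mul_eq_one_comm_of_equiv (finSumFinEquiv (m := 2) (n := 2)).symm).2 hQP
  have hform : Pᵀ * P.map (fun x => x ^ 8) = Matrix.J (Fin 2) F := by
    ext (i | i) (j | j) <;> fin_cases i <;> fin_cases j <;>
      simp [P, Matrix.J, Matrix.mul_apply, Fin.sum_univ_four, hfr8, ha, CharTwo.neg_eq] <;>
      (rw [← sub_eq_zero]; ring_nf; simp [h2, h4])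
  let σ : F →+* F := iterateFrobenius F 2 3
  have hσ : ∀ x, σ x = x ^ 8 := fun x => by simp [σ, iterateFrobenius_def]
  let T : Matrix.symplecticGroup (Fin 2) K →* Matrix (Fin 4) (Fin 4) F :=
    { toFun := fun g => P * g.1.map ι * Q
      map_one' := by rw [Submonoid.coe_one, Matrix.map_one _ (map_zero ι) (map_one ι), Matrix.mul_one, hPQ]
      map_mul' := fun g g' => by
        rw [Submonoid.coe_mul, Matrix.map_mul]
        simp only [Matrix.mul_assoc]
        rw [← Matrix.mul_assoc Q P, hQP, Matrix.one_mul] }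
  have hdet : ∀ g, (T g).det = 1 := by
    intro g
    let e : Fin 4 ≃ Fin 2 ⊕ Fin 2 := (finSumFinEquiv (m := 2) (n := 2)).symm
    show (P * g.1.map ι * Q).det = 1
    have e1 : (P.submatrix id e * (g.1.map ι).submatrix e e) * Q.submatrix e id =
        P * g.1.map ι * Q := by
      rw [Matrix.submatrix_mul_equiv, Matrix.submatrix_mul_equiv, Matrix.submatrix_id_id]
    rw [← e1, Matrix.det_mul, Matrix.det_mul, mul_right_comm, ← Matrix.det_mul,
      Matrix.submatrix_mul_equiv, Matrix.submatrix_id_id, hPQ, Matrix.det_one, one_mul,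
      Matrix.det_submatrix_equiv_self, ← RingHom.mapMatrix_apply, ← RingHom.map_det,
      SymplecticGroup.det_eq_one g.2, map_one]
  let S : Matrix.symplecticGroup (Fin 2) K →* Matrix.SpecialLinearGroup (Fin 4) F :=
    { toFun := fun g => ⟨T g, hdet g⟩
      map_one' := Subtype.ext T.map_one
      map_mul' := fun g g' => Subtype.ext (T.map_mul g g') }
  have hS : ∀ g, S g ∈ Cfsg.SU 4 F 8 := by
    intro g u v
    show Cfsg.hermForm 4 F 8 (T g *ᵥ u) (T g *ᵥ v) = _
    have hh : ∀ u v : Fin 4 → F, Cfsg.hermForm 4 F 8 u v = u ⬝ᵥ (fun i => v i ^ 8) := fun _ _ => rfl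
    have hmap : ∀ (m n : Type) [Fintype n] (A : Matrix m n F) (w : n → F),
        (fun i => (A *ᵥ w) i ^ 8) = A.map (fun x => x ^ 8) *ᵥ (fun i => w i ^ 8) := by
      intro m n _ A w
      funext i
      have := RingHom.map_mulVec σ A w i
      simpa [hσ, Function.comp_def, show ⇑σ = fun x => x ^ 8 from funext hσ] using this
    have hg : (g.1.map ι)ᵀ * Matrix.J (Fin 2) F * g.1.map ι = Matrix.J (Fin 2) F := by
      have hJ : (Matrix.J (Fin 2) K).map ι = Matrix.J (Fin 2) F := by
        ext (i | i) (j | j) <;> simp [Matrix.J, Matrix.one_apply, apply_ite ι]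
      rw [← hJ, ← Matrix.transpose_map, ← Matrix.map_mul, ← Matrix.map_mul]
      congr 1
      exact SymplecticGroup.mem_iff'.1 g.2
    have hgfix : (g.1.map ι).map (fun x => x ^ 8) = g.1.map ι := by
      ext i j; exact hfix _
    have key : ∀ w z : Fin 2 ⊕ Fin 2 → F,
        Cfsg.hermForm 4 F 8 (P *ᵥ w) (P *ᵥ z) =
          w ⬝ᵥ (Matrix.J (Fin 2) F *ᵥ fun i => z i ^ 8) := by
      intro w z
      rw [hh, hmap, ← hform, ← Matrix.mulVec_mulVec, Matrix.dotProduct_mulVec w Pᵀ,
        Matrix.vecMul_transpose]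
    have hu : ∀ u : Fin 4 → F, u = P *ᵥ (Q *ᵥ u) := fun u => by
      rw [Matrix.mulVec_mulVec, hPQ, Matrix.one_mulVec]
    show Cfsg.hermForm 4 F 8 ((P * g.1.map ι * Q) *ᵥ u) ((P * g.1.map ι * Q) *ᵥ v) = _
    rw [← Matrix.mulVec_mulVec, ← Matrix.mulVec_mulVec, ← Matrix.mulVec_mulVec,
      ← Matrix.mulVec_mulVec, key, hmap, hgfix]
    conv_rhs => rw [hu u, hu v, key]
    conv_rhs => rw [← hg]
    rw [← Matrix.mulVec_mulVec, ← Matrix.mulVec_mulVec, Matrix.dotProduct_mulVec _ (g.1.map ι)ᵀ,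
      Matrix.vecMul_transpose]
  have hSinj : Function.Injective S := by
    intro g g' e
    have e' : P * g.1.map ι * Q = P * g'.1.map ι * Q := congrArg Subtype.val e
    have e'' := congrArg (fun X => Q * X * P) e'
    simp only [← Matrix.mul_assoc, hQP, Matrix.one_mul] at e''
    simp only [Matrix.mul_assoc, hQP, Matrix.mul_one] at e''
    exact Subtype.ext (Matrix.map_injective ι.injective e'')
  obtain ⟨g₀, hg₀⟩ := Cfsg.Agent.LargeSylow.exists_sp_orderOf (h := 2) (k := 65) hK two_pos (by norm_num)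
  let S' := S.codRestrict (Cfsg.SU 4 F 8) hS
  have hS' : orderOf (S' g₀) = 65 := by
    rw [orderOf_injective S' (fun x y e => hSinj (congrArg Subtype.val e)), hg₀]
  refine ⟨QuotientGroup.mk (S' g₀), orderOf_mk _ (fun z hz h65 => ?_) hS'⟩
  have hc := Cfsg.Agent.S0279.result (F := F) (q := 8) (by rw [h]; norm_num) 4 (by norm_num)
  rw [show Nat.gcd 4 (8 + 1) = 1 by norm_num] at hc
  have : Subgroup.center (Cfsg.SU 4 F 8) = ⊥ := Subgroup.eq_bot_of_card_eq _ hc
  rwa [this, Subgroup.mem_bot] at hz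

end Cfsg.Agent.E7SixtyFive
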