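import Cfsg.Agent.Chev.E7SixtyFive.Poly
import Cfsg.Agent.Chev.Semisimple.AlcoveE7

/-!
The lattice of E7 has no isometry with characteristic polynomial `(X ^ 6 + 1) (X ± 1)`.
-/

set_option autoImplicit false
set_option maxRecDepth 100000

namespace Cfsg.Agent.E7SixtyFive

open Cfsg.Lie Cfsg.Agent.Chev Cfsg.Agent.Chev.SS Matrix

/-- The Cartan matrix. -/
def cm : Matrix (Fin 7) (Fin 7) ℤ :=
  Matrix.of fun i j => chevE7.cartan (i : ℕ) (chevE7.simple (j : ℕ))

/-- Twice the inverse of the Cartan matrix. -/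
def dm : Matrix (Fin 7) (Fin 7) ℤ := Matrix.of fun a i =>
  (alcoveE7.B.getD (a : ℕ) []).getD (i : ℕ) 0

theorem cm_symm_check : ((List.finRange 7).all fun i => (List.finRange 7).all fun j =>
    decide (cm i j = cm j i)) = true := by decide +kernel

theorem cm_symm (i j : Fin 7) : cm i j = cm j i :=
  of_decide_eq_true (List.all_eq_true.1 (List.all_eq_true.1 cm_symm_check i (List.mem_finRange i))
    j (List.mem_finRange j))
theorem cm_diag : ∀ i : Fin 7, cm i i = 2 := by decide +kernel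
theorem dm_mul_cm : ∀ a j : Fin 7, ∑ i, dm a i * cm i j = if a = j then 2 else 0 := by decide +kernel
theorem cm_root_sum : ∀ i j : Fin 7,
    ∑ s : Fin chevE7.nroots, chevE7.cartan (i : ℕ) (s : ℕ) * chevE7.cartan (j : ℕ) (s : ℕ) =
      36 * cm i j := by decide +kernel

/-- The vector spanning the radical modulo two. -/
def zv : Fin 7 → ℤ := ![0, 1, 0, 0, 1, 0, 1]

theorem cm_mod_two : ∀ b : Fin 7 → ZMod 2, (cm.map (Int.cast : ℤ → ZMod 2)) *ᵥ b = 0 →
    b = 0 ∨ b = fun i => (zv i : ZMod 2) := by decide +kernel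

theorem cm_zv_even : ∀ i, (2 : ℤ) ∣ (cm *ᵥ zv) i := by decide +kernel
theorem zv_norm : zv ⬝ᵥ (cm *ᵥ zv) = 6 := by decide +kernel

/-- The form. -/
def frm (u v : Fin 7 → ℤ) : ℤ := u ⬝ᵥ (cm *ᵥ v)

theorem frm_add_left (u u' v : Fin 7 → ℤ) : frm (u + u') v = frm u v + frm u' v :=
  add_dotProduct _ _ _

theorem frm_add_right (u v v' : Fin 7 → ℤ) : frm u (v + v') = frm u v + frm u v' := by
  simp [frm, Matrix.mulVec_add, dotProduct_add]

theorem frm_sub_left (u u' v : Fin 7 → ℤ) : frm (u - u') v = frm u v - frm u' v :=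
  sub_dotProduct _ _ _

theorem frm_sub_right (u v v' : Fin 7 → ℤ) : frm u (v - v') = frm u v - frm u v' := by
  simp [frm, Matrix.mulVec_sub, dotProduct_sub]

theorem frm_smul_left (a : ℤ) (u v : Fin 7 → ℤ) : frm (a • u) v = a * frm u v := by
  rw [frm, smul_dotProduct, smul_eq_mul, frm]

theorem frm_smul_right (a : ℤ) (u v : Fin 7 → ℤ) : frm u (a • v) = a * frm u v := by
  rw [frm, Matrix.mulVec_smul, dotProduct_smul, smul_eq_mul, frm]

theorem frm_comm (u v : Fin 7 → ℤ) : frm u v = frm v u := by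
  simp only [frm, dotProduct, Matrix.mulVec, Finset.mul_sum]
  rw [Finset.sum_comm]
  exact Finset.sum_congr rfl fun i _ => Finset.sum_congr rfl fun j _ => by rw [cm_symm]; ring

theorem two_dvd_frm_self (v : Fin 7 → ℤ) : (2 : ℤ) ∣ frm v v := by
  have h : ∀ b : Fin 7 → ZMod 2, b ⬝ᵥ ((cm.map (Int.cast : ℤ → ZMod 2)) *ᵥ b) = 0 := by
    decide +kernel
  refine (ZMod.intCast_zmod_eq_zero_iff_dvd _ 2).1 ?_
  have e := h fun i => (v i : ZMod 2)
  simp only [frm, dotProduct, Matrix.mulVec, Matrix.map_apply] at e ⊢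
  push_cast
  exact e

theorem frm_root_sum (v : Fin 7 → ℤ) :
    36 * frm v v = ∑ s : Fin chevE7.nroots,
      (∑ i : Fin 7, v i * chevE7.cartan (i : ℕ) (s : ℕ)) ^ 2 := by
  simp only [frm, dotProduct, Matrix.mulVec, Finset.mul_sum, sq, Finset.sum_mul]
  rw [Finset.sum_comm (γ := Fin chevE7.nroots)]
  refine Finset.sum_congr rfl fun i _ => ?_
  rw [Finset.sum_comm (γ := Fin chevE7.nroots)]
  refine Finset.sum_congr rfl fun j _ => ?_
  rw [show (36 : ℤ) * (v i * (cm i j * v j)) = v i * v j * (36 * cm i j) by ring,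
    ← cm_root_sum, Finset.mul_sum]
  exact Finset.sum_congr rfl fun s _ => by ring

theorem dm_cm_mulVec (v : Fin 7 → ℤ) : dm *ᵥ (cm *ᵥ v) = (2 : ℤ) • v := by
  rw [Matrix.mulVec_mulVec,
    show dm * cm = (2 : ℤ) • (1 : Matrix (Fin 7) (Fin 7) ℤ) from Matrix.ext fun a j => by
      rw [Matrix.mul_apply, dm_mul_cm]; simp [Matrix.one_apply],
    Matrix.smul_mulVec, Matrix.one_mulVec]

theorem cm_mulVec_apply (v : Fin 7 → ℤ) (l : Fin 7) :
    (cm *ᵥ v) l = frm (Pi.single l 1) v := (single_one_dotProduct l (cm *ᵥ v)).symm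

theorem frm_pos {v : Fin 7 → ℤ} (hv : v ≠ 0) : 0 < frm v v := by
  have h := frm_root_sum v
  have h0 : 0 ≤ frm v v := by
    have : 0 ≤ 36 * frm v v := h ▸ Finset.sum_nonneg fun s _ => sq_nonneg _
    omega
  refine lt_of_le_of_ne h0 fun e => hv ?_
  rw [← e, mul_zero, eq_comm, Finset.sum_eq_zero_iff_of_nonneg fun s _ => sq_nonneg _] at h
  have hc : cm *ᵥ v = 0 := by
    funext l
    have hlt : chevE7.simple (l : ℕ) < chevE7.nroots :=
      (show ∀ l : Fin 7, chevE7.simple (l : ℕ) < chevE7.nroots by decide +kernel) l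
    have := pow_eq_zero_iff (n := 2) (by norm_num) |>.1 (h ⟨_, hlt⟩ (Finset.mem_univ _))
    rw [Pi.zero_apply, ← this]
    simp only [Matrix.mulVec, dotProduct]
    exact Finset.sum_congr rfl fun i _ => by rw [cm_symm]; exact mul_comm _ _
  have := dm_cm_mulVec v
  rw [hc, Matrix.mulVec_zero] at this
  exact (smul_eq_zero.1 this.symm).resolve_left (by norm_num)

/-- A vector in the radical modulo two is even or has norm six modulo eight. -/
theorem radical_norm {b : Fin 7 → ℤ} (h : ∀ i, (2 : ℤ) ∣ (cm *ᵥ b) i) :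
    (∀ i, (2 : ℤ) ∣ b i) ∨ (8 : ℤ) ∣ frm b b - 6 := by
  have h0 : (cm.map (Int.cast : ℤ → ZMod 2)) *ᵥ (fun i => (b i : ZMod 2)) = 0 := by
    funext i
    have e := (ZMod.intCast_zmod_eq_zero_iff_dvd _ 2).2 (h i)
    simp only [Matrix.mulVec, dotProduct] at e ⊢
    push_cast at e
    exact e
  rcases cm_mod_two _ h0 with e | e
  · exact Or.inl fun i => (ZMod.intCast_zmod_eq_zero_iff_dvd _ 2).1 (congrFun e i)
  · right
    have hd : ∀ i, (2 : ℤ) ∣ (b i - zv i) := fun i =>
      (ZMod.intCast_zmod_eq_zero_iff_dvd _ 2).1 (by push_cast; rw [sub_eq_zero]; exact congrFun e i)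
    choose t ht using hd
    have hb : b = zv + (2 : ℤ) • t := funext fun i => by
      simp only [Pi.add_apply, Pi.smul_apply, smul_eq_mul]; linarith [ht i]
    have hzt : (2 : ℤ) ∣ frm t zv := by
      rw [frm, dotProduct]; exact Finset.dvd_sum fun i _ => Dvd.dvd.mul_left (cm_zv_even i) _
    obtain ⟨a, ha⟩ := hzt
    obtain ⟨c, hc⟩ := two_dvd_frm_self t
    rw [hb]
    simp only [frm_add_left, frm_add_right, frm_smul_left, frm_smul_right, frm_comm zv t]
    rw [show frm zv zv = 6 from zv_norm, ha, hc]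
    exact ⟨a + c, by ring⟩

variable {M : Matrix (Fin 7) (Fin 7) ℤ}

/-- The sum `m + M m + … + M ^ 5 m` has norm divisible by four when `M ^ 6 m = - m`. -/
theorem four_dvd_frm_sum (hM : ∀ u v, frm (M *ᵥ u) (M *ᵥ v) = frm u v) {m : Fin 7 → ℤ}
    (h6 : (M ^ 6) *ᵥ m = -m) :
    (4 : ℤ) ∣ frm (∑ i ∈ Finset.range 6, (M ^ i) *ᵥ m) (∑ i ∈ Finset.range 6, (M ^ i) *ᵥ m) := by
  have hk : ∀ k i j : ℕ, frm ((M ^ (i + k)) *ᵥ m) ((M ^ (j + k)) *ᵥ m) =
      frm ((M ^ i) *ᵥ m) ((M ^ j) *ᵥ m) := by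
    intro k
    induction k with
    | zero => intros; rfl
    | succ k ih =>
      intro i j
      rw [← add_assoc, ← add_assoc, pow_succ', pow_succ', ← Matrix.mulVec_mulVec,
        ← Matrix.mulVec_mulVec, hM, ih]
  set c : ℕ → ℤ := fun d => frm m ((M ^ d) *ᵥ m) with hc
  have e : ∀ i j : ℕ, frm ((M ^ i) *ᵥ m) ((M ^ (i + j)) *ᵥ m) = c j := fun i j => by
    have := hk i 0 j
    rw [zero_add, pow_zero, Matrix.one_mulVec, add_comm j i] at this
    exact this
  have e' : ∀ i j : ℕ, frm ((M ^ (i + j)) *ᵥ m) ((M ^ i) *ᵥ m) = c j := fun i j => by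
    rw [frm_comm, e]
  have hneg : ∀ d ≤ 6, c (6 - d) = -c d := by
    intro d hd
    have h := e d (6 - d)
    rw [show d + (6 - d) = 6 by omega, h6] at h
    rw [← h, hc, frm_comm, show -m = (-1 : ℤ) • m by simp, frm_smul_left, neg_one_mul]
  obtain ⟨a, ha⟩ : (2 : ℤ) ∣ c 0 := by
    simp only [hc, pow_zero, Matrix.one_mulVec]; exact two_dvd_frm_self m
  have h1 := hneg 1 (by norm_num)
  have h2 := hneg 2 (by norm_num)
  have h3 := hneg 3 (by norm_num)
  norm_num at h1 h2 h3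
  have key : frm (∑ i ∈ Finset.range 6, (M ^ i) *ᵥ m) (∑ i ∈ Finset.range 6, (M ^ i) *ᵥ m) =
      6 * c 0 + 2 * (5 * c 1 + 4 * c 2 + 3 * c 3 + 2 * c 4 + c 5) := by
    simp only [Finset.sum_range_succ, Finset.sum_range_zero, zero_add, frm_add_left, frm_add_right]
    rw [e 0 0, e 1 0, e 2 0, e 3 0, e 4 0, e 5 0, e 0 1, e 1 1, e 2 1, e 3 1, e 4 1, e 0 2, e 1 2,
      e 2 2, e 3 2, e 0 3, e 1 3, e 2 3, e 0 4, e 1 4, e 0 5, e' 0 1, e' 1 1, e' 2 1, e' 3 1,
      e' 4 1, e' 0 2, e' 1 2, e' 2 2, e' 3 2, e' 0 3, e' 1 3, e' 2 3, e' 0 4, e' 1 4, e' 0 5]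
    ring
  refine ⟨3 * a + 2 * c 1 + c 2, ?_⟩
  rw [key]
  linarith

open Polynomial in
/-- No isometry has this characteristic polynomial. -/
theorem no_isometry (hM : ∀ u v, frm (M *ᵥ u) (M *ᵥ v) = frm u v) (h6 : M ^ 6 ≠ -1)
    (hrel : (M ^ 6 + 1) * (M - 1) = 0)
    (hrk : Module.finrank ℚ (Module.End.eigenspace
      (Matrix.toLin' (M.map (Int.cast : ℤ → ℚ))) 1) ≤ 1) : False := by
  set P := M ^ 6 + 1 with hP
  have hMP : M * P = P := by
    have : P * M = P := by
      rw [mul_sub, mul_one, sub_eq_zero] at hrel; exact hrel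
    have hc : Commute M P := (Commute.self_pow M 6).add_right (Commute.one_right M)
    rw [hc.eq, this]
  have hfix : ∀ x, M *ᵥ (P *ᵥ x) = P *ᵥ x := fun x => by rw [Matrix.mulVec_mulVec, hMP]
  have hpowfix : ∀ (k : ℕ) (x : Fin 7 → ℤ), M *ᵥ x = x → (M ^ k) *ᵥ x = x := by
    intro k x hx
    induction k with
    | zero => simp
    | succ k ih => rw [pow_succ, ← Matrix.mulVec_mulVec, hx, ih]
  have hPfix : ∀ x, M *ᵥ x = x → P *ᵥ x = (2 : ℤ) • x := fun x hx => by
    rw [hP, Matrix.add_mulVec, Matrix.one_mulVec, hpowfix 6 x hx, two_smul]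
  have hMk : ∀ (k : ℕ) (u v : Fin 7 → ℤ), frm ((M ^ k) *ᵥ u) ((M ^ k) *ᵥ v) = frm u v := by
    intro k u v
    induction k with
    | zero => simp
    | succ k ih => rw [pow_succ', ← Matrix.mulVec_mulVec, ← Matrix.mulVec_mulVec, hM, ih]
  have hdef : ∀ x v, M *ᵥ v = v → frm (P *ᵥ x) v = 2 * frm x v := fun x v hv => by
    rw [hP, Matrix.add_mulVec, Matrix.one_mulVec, frm_add_left]
    conv_lhs => arg 1; arg 2; rw [← hpowfix 6 v hv]
    rw [hMk]; ring
  -- the integrality of the projection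
  have hev : ∀ x, (2 : ℤ) ∣ frm x (P *ᵥ x) := by
    intro x
    set m := (M - 1) *ᵥ x with hm
    have hm6 : (M ^ 6) *ᵥ m = -m := by
      have : P *ᵥ m = 0 := by rw [hm, Matrix.mulVec_mulVec, hrel, Matrix.zero_mulVec]
      rw [hP, Matrix.add_mulVec, Matrix.one_mulVec] at this
      exact eq_neg_of_add_eq_zero_left this
    have hsum : (∑ i ∈ Finset.range 6, (M ^ i) *ᵥ m) = P *ᵥ x - (2 : ℤ) • x := by
      rw [hm]
      simp only [Matrix.mulVec_mulVec]
      rw [← Matrix.sum_mulVec, ← Finset.sum_mul, geom_sum_mul, hP, Matrix.sub_mulVec,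
        Matrix.add_mulVec, Matrix.one_mulVec, two_smul]
      abel
    obtain ⟨a, ha⟩ := four_dvd_frm_sum hM hm6
    obtain ⟨b, hb⟩ := two_dvd_frm_self x
    rw [hsum] at ha
    simp only [frm_sub_left, frm_sub_right, frm_smul_left, frm_smul_right] at ha
    have h1 := hdef x _ (hfix x)
    rw [frm_comm (P *ᵥ x) x] at ha
    exact ⟨2 * b - a, by linarith⟩
  -- the primitive fixed vector
  obtain ⟨l, hl⟩ : ∃ l, P *ᵥ Pi.single l 1 ≠ 0 := by
    by_contra! h
    refine h6 (eq_neg_of_add_eq_zero_left (Matrix.ext fun i j => ?_))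
    have := congrFun (h j) i
    rw [Matrix.mulVec_single_one] at this
    exact this
  set b := P *ᵥ Pi.single l 1 with hbdef
  obtain ⟨v, hbv, hgcd⟩ := Finset.extract_gcd b (Finset.univ_nonempty (α := Fin 7))
  obtain ⟨co, hco⟩ := Finset.gcd_eq_sum_mul (s := Finset.univ) (f := v)
  rw [hgcd] at hco
  have hg0 : Finset.univ.gcd b ≠ 0 := fun h => hl (funext fun i => by
    have := hbv i (Finset.mem_univ i)
    rw [h, zero_mul] at this
    exact this)
  have hb' : b = (Finset.univ.gcd b) • v := funext fun i => hbv i (Finset.mem_univ i)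
  have hv : M *ᵥ v = v := by
    have := hfix (Pi.single l 1)
    rw [← hbdef, hb', Matrix.mulVec_smul] at this
    exact smul_right_injective _ hg0 this
  have hv0 : v ≠ 0 := fun h => hl (by rw [hb', h, smul_zero])
  have hline : ∀ u, M *ᵥ u = u → ∃ a : ℤ, u = a • v := by
    intro u hu
    set f : Module.End ℚ (Fin 7 → ℚ) := Matrix.toLin' (M.map (Int.cast : ℤ → ℚ)) with hf
    have hmem : ∀ w : Fin 7 → ℤ, M *ᵥ w = w →
        (fun i => (w i : ℚ)) ∈ f.eigenspace 1 := by
      intro w hw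
      rw [Module.End.mem_eigenspace_iff, one_smul, hf, Matrix.toLin'_apply]
      funext i
      conv_rhs => rw [← congrFun hw i]
      simp only [Matrix.mulVec, dotProduct, Matrix.map_apply]
      push_cast
      rfl
    have hfr : Module.finrank ℚ (f.eigenspace 1) ≤ 1 := hrk
    have hne : (⟨_, hmem v hv⟩ : f.eigenspace 1) ≠ 0 := fun h => hv0 (funext fun i => by
      have := congrFun (congrArg Subtype.val h) i
      simpa using this)
    obtain ⟨a, ha⟩ := (finrank_eq_one_iff_of_nonzero' _ hne).1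
      (le_antisymm hfr (Module.finrank_pos_iff_exists_ne_zero.2 ⟨_, hne⟩)) ⟨_, hmem u hu⟩
    have ha' : ∀ i, (u i : ℚ) = a * v i := fun i => by
      have := congrFun (congrArg Subtype.val ha) i
      simpa using this.symm
    refine ⟨∑ i, u i * co i, funext fun i => ?_⟩
    have hco' : (∑ j, (v j : ℚ) * co j) = 1 := by exact_mod_cast hco.symm
    have : (((∑ j, u j * co j) * v i : ℤ) : ℚ) = (u i : ℚ) := by
      push_cast
      simp only [ha']
      rw [show (∑ j, a * (v j : ℚ) * co j) = a * ∑ j, (v j : ℚ) * co j by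
        rw [Finset.mul_sum]; exact Finset.sum_congr rfl fun j _ => by ring, hco', mul_one]
    rw [Pi.smul_apply, smul_eq_mul]
    exact_mod_cast this.symm
  -- the relation between the two pairings
  set n := frm v v with hn
  have key : ∀ x, ∃ a : ℤ, 2 * frm x v = a * n ∧ (2 : ℤ) ∣ a * frm x v := by
    intro x
    obtain ⟨a, ha⟩ := hline _ (hfix x)
    refine ⟨a, ?_, ?_⟩
    · rw [← hdef x v hv, ha, frm_smul_left]
    · have := hev x
      rwa [ha, frm_smul_right] at this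
  have hnpos : 0 < n := frm_pos hv0
  have hn4 : n ∣ 4 := by
    have hC : ∀ i, n ∣ 2 * (cm *ᵥ v) i := fun i => by
      obtain ⟨a, ha, -⟩ := key (Pi.single i 1)
      rw [cm_mulVec_apply, ha]; exact dvd_mul_left _ _
    have h4 : ∀ i, n ∣ 4 * v i := fun i => by
      have h := congrFun (dm_cm_mulVec v) i
      rw [Pi.smul_apply, smul_eq_mul] at h
      rw [show 4 * v i = 2 * (2 * v i) by ring, ← h]
      rw [show (dm *ᵥ cm *ᵥ v) i = ∑ j, dm i j * (cm *ᵥ v) j from rfl, Finset.mul_sum]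
      refine Finset.dvd_sum fun j _ => ?_
      rw [mul_left_comm]
      exact Dvd.dvd.mul_left (hC j) _
    have : n ∣ ∑ i, 4 * v i * co i := Finset.dvd_sum fun i _ => Dvd.dvd.mul_right (h4 i) _
    rwa [Finset.sum_congr rfl fun i _ => mul_assoc (4 : ℤ) (v i) (co i), ← Finset.mul_sum, ← hco,
      mul_one] at this
  obtain ⟨n', hn'⟩ := two_dvd_frm_self v
  rw [← hn] at hn'
  have hn24 : n = 2 ∨ n = 4 := by
    have := Int.le_of_dvd (by norm_num) hn4
    omega
  have heven : ∀ i, (2 : ℤ) ∣ (cm *ᵥ v) i := fun i => by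
    obtain ⟨a, ha, hd⟩ := key (Pi.single i 1)
    rw [cm_mulVec_apply]
    rcases hn24 with e | e
    · rw [e] at ha
      have : a = frm (Pi.single i 1) v := by omega
      rw [this] at hd
      exact (Int.prime_two.dvd_mul.1 hd).elim id id
    · rw [e] at ha
      exact ⟨a, by omega⟩
  rcases radical_norm heven with h | h
  · have : (2 : ℤ) ∣ ∑ i, v i * co i := Finset.dvd_sum fun i _ => Dvd.dvd.mul_right (h i) _
    rw [← hco] at this
    omega
  · rw [← hn] at h; omega

end Cfsg.Agent.E7SixtyFive
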