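import Cfsg.Agent.Chev.E7SixtyFive.Lattice
import Cfsg.Agent.Chev.Semisimple.Classes

/-!
The group of type E7 over the field with two elements has no element of order 65.
-/

set_option autoImplicit false
set_option maxRecDepth 100000

namespace Cfsg.Agent.E7SixtyFive

open Cfsg.Lie Cfsg.Agent.Chev Cfsg.Agent.Chev.SS Matrix
open scoped MatrixGroups

universe u

theorem exists_setup {F : Type u} [Field F] [Fintype F] [CharP F 2] (hq : Fintype.card F = 2) :
    ∃ (k : Type u) (_ : Field k) (_ : IsAlgClosed k) (_ : CharP k 2) (σ : k →+* k)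
      (ι : F →+* k), Setup chevE7 alcoveE7 2 2 σ ι := by
  classical
  let k := AlgebraicClosure F
  let ι : F →+* k := algebraMap F k
  let σ : k →+* k := (FiniteField.frobeniusAlgHom F k).toRingHom
  have hσ : ∀ t : k, σ t = t ^ 2 := fun t => by
    show FiniteField.frobeniusAlgHom F k t = _
    simp [hq]
  have hchar : CharP k 2 := (RingHom.charP_iff ι ι.injective 2).1 inferInstance
  refine ⟨k, inferInstance, inferInstance, hchar, σ, ι,
    facts_chevE7, alcoveE7_valid, two_pos, alcoveE7_valid.cartanInv rfl, le_rfl,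
    Nat.coprime_one_right _, hσ, CharP.cast_eq_zero k 2,
    fun a => (FiniteField.frobeniusAlgHom F k).commutes a, fun z hz => ?_, fun u => ?_⟩
  · rw [hσ] at hz
    rcases mul_eq_zero.1 (show z * (z - 1) = 0 by linear_combination hz) with e | e
    · exact ⟨0, by rw [map_zero, e]⟩
    · exact ⟨1, by rw [map_one, sub_eq_zero.1 e]⟩
  · let E := IntermediateField.adjoin F ({(u : k)} : Set k)
    haveI : FiniteDimensional F E :=
      IntermediateField.adjoin.finiteDimensional (Algebra.IsIntegral.isIntegral (u : k))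
    haveI : Finite E := Module.finite_of_finite F
    haveI : Fintype E := Fintype.ofFinite E
    refine ⟨Fintype.card E - 1, ?_, Units.ext ?_⟩
    · have h1 : ((Fintype.card E : ℕ) : k) = 0 := by
        rw [← map_natCast (algebraMap E k), FiniteField.cast_card_eq_zero, map_zero]
      rw [Nat.cast_sub (Fintype.card_pos : 0 < Fintype.card E), h1, Nat.cast_one, zero_sub]
      exact neg_ne_zero.2 one_ne_zero
    · have hm : (u : k) ∈ E :=
        IntermediateField.subset_adjoin F _ (Set.mem_singleton _)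
      have h2 : (⟨(u : k), hm⟩ : E) ^ (Fintype.card E - 1) = 1 :=
        FiniteField.pow_card_sub_one_eq_one _ fun h => u.ne_zero (congrArg Subtype.val h)
      rw [Units.val_pow_eq_pow_val, Units.val_one]
      simpa using congrArg Subtype.val h2

theorem gen_check : ((List.finRange chevE7.rank).all fun i =>
    (List.finRange chevE7.rank).all fun a => (List.finRange chevE7.rank).all fun b =>
      decide (∑ c : Fin chevE7.rank, ∑ d : Fin chevE7.rank,
        wMat chevE7 [i] c a * (chevE7.cartan (c : ℕ) (chevE7.simple (d : ℕ)) *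
          wMat chevE7 [i] d b) = chevE7.cartan (a : ℕ) (chevE7.simple (b : ℕ)))) = true := by
  decide +kernel

theorem rank_eq : chevE7.rank = 7 := rfl

/-- The matrix of a word, in dimension seven. -/
def wm (w : List (Fin chevE7.rank)) : Matrix (Fin 7) (Fin 7) ℤ := wMat chevE7 w

theorem wm_cons (i : Fin chevE7.rank) (w : List (Fin chevE7.rank)) :
    wm (i :: w) = wm [i] * wm w := wMat_append (D := chevE7) [i] w

theorem frm_wm : ∀ (w : List (Fin chevE7.rank)) (u v : Fin 7 → ℤ),
    frm (wm w *ᵥ u) (wm w *ᵥ v) = frm u v := by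
  intro w
  induction w with
  | nil =>
    intro u v
    rw [show wm [] = 1 from wMat_nil, Matrix.one_mulVec, Matrix.one_mulVec]
  | cons i w ih =>
    intro u v
    have hgen : (wm [i])ᵀ * (cm * wm [i]) = cm := Matrix.ext fun a b => by
      have h := of_decide_eq_true (List.all_eq_true.1 (List.all_eq_true.1
        (List.all_eq_true.1 gen_check i (List.mem_finRange i)) a (List.mem_finRange a))
          b (List.mem_finRange b))
      simp only [Matrix.mul_apply, Matrix.transpose_apply, Finset.mul_sum]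
      exact h
    rw [wm_cons, ← Matrix.mulVec_mulVec, ← Matrix.mulVec_mulVec]
    conv_rhs => rw [← ih u v]
    unfold frm
    conv_rhs => rw [← hgen]
    rw [← Matrix.mulVec_mulVec, ← Matrix.mulVec_mulVec, Matrix.dotProduct_mulVec _ (wm [i])ᵀ,
      Matrix.vecMul_transpose]

/-- Iterates of a word. -/
def iter (w : List (Fin chevE7.rank)) : ℕ → List (Fin chevE7.rank)
  | 0 => []
  | n + 1 => w ++ iter w n

theorem wMat_iter (w : List (Fin chevE7.rank)) : ∀ n, wMat chevE7 (iter w n) = wMat chevE7 w ^ n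
  | 0 => wMat_nil
  | n + 1 => by rw [iter, wMat_append, wMat_iter w n, pow_succ']

theorem wm_finite (w : List (Fin chevE7.rank)) : ∃ N, 0 < N ∧ wm w ^ N = 1 := by
  have hF : Facts.{0} chevE7 := facts_chevE7
  have happ : ∀ a b : List (Fin chevE7.rank), pWord hF (a ++ b) = pWord hF a * pWord hF b :=
    fun a b => pWord_append hF a b
  have hit : ∀ n, pWord hF (iter w n) = pWord hF w ^ n := by
    intro n
    induction n with
    | zero => rfl
    | succ n ih => rw [iter, happ, ih, pow_succ']
  refine ⟨orderOf (pWord hF w), orderOf_pos _, ?_⟩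
  show wMat chevE7 w ^ _ = (1 : Matrix (Fin chevE7.rank) (Fin chevE7.rank) ℤ)
  refine (wMat_iter w _).symm.trans ?_
  set u := iter w (orderOf (pWord hF w)) with hu
  have hu1 : pWord hF u = 1 := by rw [hu, hit, pow_orderOf_eq_one]
  have hv : ∀ v : Fin chevE7.rank → ℤ, Eigen.wordV chevE7 u v = v := by
    intro v
    have hip : ∀ i : Fin chevE7.rank,
        ip chevE7 (Eigen.wordV chevE7 u v) (chevE7.simple i) = ip chevE7 v (chevE7.simple i) := by
      intro i
      have hlt : chevE7.simple (i : ℕ) < chevE7.nroots :=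
        (show ∀ l : Fin chevE7.rank, chevE7.simple (l : ℕ) < chevE7.nroots by decide +kernel) i
      have h := ip_wordV hF u v ⟨_, hlt⟩
      rw [hu1] at h
      exact h
    have hc : cm *ᵥ (Eigen.wordV chevE7 u v : Fin 7 → ℤ) = cm *ᵥ (v : Fin 7 → ℤ) := by
      funext i
      have h := hip i
      simp only [ip, Matrix.mulVec, dotProduct] at h ⊢
      refine Eq.trans ?_ (Eq.trans h ?_)
      · exact Finset.sum_congr rfl fun c _ =>
          (congrArg (· * _) (cm_symm i c)).trans (mul_comm _ _)
      · exact Finset.sum_congr rfl fun c _ =>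
          (mul_comm _ _).trans (congrArg (· * _) (cm_symm c i))
    have := congrArg (dm *ᵥ ·) hc
    exact smul_right_injective (Fin 7 → ℤ) (two_ne_zero : (2 : ℤ) ≠ 0)
      ((dm_cm_mulVec _).symm.trans (this.trans (dm_cm_mulVec _)))
  exact Matrix.ext fun a b => by
    rw [wMat, Matrix.of_apply, hv]
    simp [unitV, Matrix.one_apply]

section Torus

variable {D : ChevalleyDatum} {F k : Type u} [Field F] [Field k] [IsAlgClosed k]
variable {C : Alcove D} {e q : ℕ} {σ : k →+* k} {ι : F →+* k} (S : Setup D C e q σ ι)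
include S

theorem exists_eigen {s : ℕ} [Fact s.Prime] (hs : (s : k) ≠ 0)
    {u : List (Fin D.rank)} {c : Fin D.rank → kˣ} (hfix : wordC D u (c ^ q) = c)
    (hc : c ^ s = 1) (hc1 : c ≠ 1) :
    ∃ v : Fin D.rank → ZMod s, v ≠ 0 ∧
      (q : ZMod s) • ((wMat D u).map Int.cast).mulVec v = v := by
  haveI : NeZero (s : k) := ⟨hs⟩
  haveI : NeZero s := ⟨(Fact.out : s.Prime).ne_zero⟩
  obtain ⟨z, hz⟩ := HasEnoughRootsOfUnity.exists_primitiveRoot k s
  set ζ : kˣ := (hz.isUnit (NeZero.ne s)).unit with hζdef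
  have hζ : IsPrimitiveRoot ζ s := IsPrimitiveRoot.coe_units_iff.1 hz
  have hexp : ∀ i, ∃ x : ℤ, c i = ζ ^ x := by
    intro i
    have h3 : (c i : k) ^ s = 1 := by
      rw [← Units.val_pow_eq_pow_val, ← Pi.pow_apply, hc, Pi.one_apply, Units.val_one]
    obtain ⟨j, -, hj⟩ := hz.eq_pow_of_pow_eq_one h3
    exact ⟨j, Units.ext (by rw [zpow_natCast, Units.val_pow_eq_pow_val]; exact hj.symm)⟩
  choose v hv using hexp
  refine ⟨fun i => (v i : ZMod s), fun h => hc1 (funext fun i => ?_), ?_⟩
  · rw [hv, Pi.one_apply, hζ.zpow_eq_one_iff_dvd, ← ZMod.intCast_zmod_eq_zero_iff_dvd]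
    exact congrFun h i
  have heq : ∀ a b : ℤ, ζ ^ a = ζ ^ b ↔ ((a : ℤ) : ZMod s) = b := fun a b => by
    rw [ZMod.intCast_eq_intCast_iff_dvd_sub, ← hζ.zpow_eq_one_iff_dvd, _root_.zpow_sub, mul_inv_eq_one]
    exact eq_comm
  have hpow : c ^ q = fun i => ζ ^ ((q : ℤ) * v i) := by
    funext i
    rw [Pi.pow_apply, hv, ← zpow_natCast, ← _root_.zpow_mul, mul_comm]
  rw [hpow, Eigen.wordC_zpow, ← wMat_mulVec] at hfix
  funext i
  have h := congrFun hfix i
  rw [hv i, heq] at h
  rw [← h]
  simp only [Matrix.mulVec, dotProduct, Pi.smul_apply, smul_eq_mul, Matrix.map_apply]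
  push_cast
  rw [Finset.mul_sum]
  simp only [mul_left_comm]

end Torus

theorem seven_mul_two : (7 : ZMod 13) * ((2 : ℕ) : ZMod 13) = 1 := by decide

theorem three_mul_two : (3 : ZMod 5) * ((2 : ℕ) : ZMod 5) = 1 := by decide

/-- No element of the group of type E7 over the field with two elements has order 65. -/
theorem orderOf_ne {F : Type u} [Field F] [Fintype F] (hq : Fintype.card F = 2)
    (h : ↥(chevE7.group F)) : orderOf h ≠ 65 := by
  intro ho
  haveI : CharP F 2 := charP_of_card_eq_prime (by rw [← hq])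
  obtain ⟨k, _, _, _, σ, ι, S⟩ := exists_setup (F := F) hq
  haveI : Fact (Nat.Prime 2) := ⟨Nat.prime_two⟩
  haveI : Fact (Nat.Prime 13) := ⟨by norm_num⟩
  haveI : Fact (Nat.Prime 5) := ⟨by norm_num⟩
  obtain ⟨c, ⟨u, hu⟩, hh⟩ := S.exists_stable 2 (orderOf_pos_iff.1 (by rw [ho]; norm_num))
    (by rw [ho]; norm_num)
  have hpow : ∀ n, torusHom (c ^ n) = (1 : GL chevE7.Idx k) → h ^ n = 1 := by
    intro n hn
    obtain ⟨g, -, hg⟩ := hh
    refine Subtype.ext (gmap_injective ι ?_)
    rw [Subgroup.coe_pow, map_pow, hg, conj_pow, ← map_pow, hn, Subgroup.coe_one, map_one]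
    group
  have hne : ∀ n, ¬65 ∣ n → c ^ n ≠ 1 := fun n hn e => hn (ho ▸ orderOf_dvd_of_pow_eq_one
    (hpow n (by rw [e, map_one])))
  have hc65 : c ^ 65 = 1 := by
    obtain ⟨g, -, hg⟩ := hh
    have h1 : (torusHom (c ^ 65) : GL chevE7.Idx k) = 1 := by
      have e := congrArg (gmap chevE7 ι) (congrArg Subtype.val (ho ▸ pow_orderOf_eq_one h))
      rw [Subgroup.coe_pow, map_pow, hg, conj_pow, ← map_pow, Subgroup.coe_one, map_one,
        conj_eq_one_iff] at e
      exact e
    have h2 := S.ker_pow h1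
    funext i
    have h3 := congrArg Units.val (congrFun h2 i)
    rw [Pi.pow_apply, Units.val_pow_eq_pow_val, Pi.one_apply, Units.val_one] at h3
    refine Units.ext ?_
    rw [Pi.one_apply, Units.val_one, ← CharTwo.add_eq_zero]
    refine pow_eq_zero_iff (n := 2) (by norm_num) |>.1 ?_
    rw [CharTwo.add_sq, one_pow, h3, CharTwo.add_self_eq_zero]
  have hcast : ∀ s : ℕ, s.Prime → s ≠ 2 → (s : k) ≠ 0 := fun s hs hs2 h0 =>
    hs2 ((Nat.prime_dvd_prime_iff_eq Nat.prime_two hs).1
      ((CharP.cast_eq_zero_iff k 2 s).1 h0)).symm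
  have hfix : ∀ n, wordC chevE7 u ((c ^ n) ^ 2) = c ^ n := fun n => by
    rw [← pow_mul, mul_comm, pow_mul, wordC_pow, hu]
  obtain ⟨v, hv, hev⟩ := exists_eigen S (s := 13) (hcast 13 Fact.out (by norm_num)) (hfix 5)
    (by rw [← pow_mul]; exact hc65) (hne 5 (by norm_num))
  obtain ⟨w, hw, hew⟩ := exists_eigen S (s := 5) (hcast 5 Fact.out (by norm_num)) (hfix 13)
    (by rw [← pow_mul]; exact hc65) (hne 13 (by norm_num))
  have h13 : ((wm u).map (Int.cast : ℤ → ZMod 13)) *ᵥ (v : Fin 7 → ZMod 13) =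
      (7 : ZMod 13) • (v : Fin 7 → ZMod 13) := by
    have e := congrArg ((7 : ZMod 13) • ·) hev
    simp only [smul_smul] at e
    rw [seven_mul_two, one_smul] at e
    exact e
  have h5 : ((wm u).map (Int.cast : ℤ → ZMod 5)) *ᵥ (w : Fin 7 → ZMod 5) =
      (3 : ZMod 5) • (w : Fin 7 → ZMod 5) := by
    have e := congrArg ((3 : ZMod 5) • ·) hew
    simp only [smul_smul] at e
    rw [three_mul_two, one_smul] at e
    exact e
  obtain ⟨N, hN, hMN⟩ := wm_finite u
  obtain ⟨e, he, hdet, hchar⟩ := exists_sign (wm u) hN hMN hv h13 hw h5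
  open Polynomial in
  have hrel : (wm u ^ 6 + 1) * (wm u - e • 1) = 0 := by
    apply Matrix.map_injective (f := Int.castRingHom ℚ) Int.cast_injective
    show (Int.castRingHom ℚ).mapMatrix _ = (Int.castRingHom ℚ).mapMatrix 0
    have := Matrix.aeval_self_charpoly ((wm u).map (Int.cast : ℤ → ℚ))
    rw [hchar, map_mul, map_add, map_pow, aeval_X, map_one, map_sub, aeval_X, aeval_C] at this
    rw [map_zero, map_mul, map_add, map_pow, map_one, map_sub, map_zsmul, map_one]
    refine Eq.trans ?_ this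
    rw [Algebra.algebraMap_eq_smul_one, Int.cast_smul_eq_zsmul]
    rfl
  have h6 : wm u ^ 6 ≠ -1 := fun h => by
    have h1 := congrArg Matrix.det h
    rw [Matrix.det_pow, hdet, Matrix.det_neg, Matrix.det_one] at h1
    rcases he with rfl | rfl <;> norm_num at h1
  have he2 : e * e = 1 := by rcases he with rfl | rfl <;> norm_num
  refine no_isometry (M := e • wm u) (fun x y => ?_) ?_ ?_ ?_
  · rw [Matrix.smul_mulVec, Matrix.smul_mulVec, frm_smul_left, frm_smul_right, frm_wm,
      ← mul_assoc, he2, one_mul]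
  · rw [_root_.smul_pow, show e ^ 6 = 1 by rcases he with rfl | rfl <;> norm_num, one_smul]; exact h6
  · rw [_root_.smul_pow, show e ^ 6 = 1 by rcases he with rfl | rfl <;> norm_num, one_smul,
      show e • wm u - 1 = e • (wm u - e • 1) by rw [smul_sub, smul_smul, he2, one_smul],
      mul_smul_comm, hrel, smul_zero]
  · have hX : ((Polynomial.X ^ 6 + 1) : Polynomial ℚ).eval (e : ℚ) ≠ 0 := by
      rcases he with rfl | rfl <;> norm_num
    have hq : ((Polynomial.X ^ 6 + 1) : Polynomial ℚ) ≠ 0 := fun h => hX (by rw [h]; simp)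
    have heq : Module.End.eigenspace
        (Matrix.toLin' ((e • wm u).map (Int.cast : ℤ → ℚ))) 1 =
        Module.End.eigenspace (Matrix.toLin' ((wm u).map (Int.cast : ℤ → ℚ))) (e : ℚ) := by
      have hm : (e • wm u).map (Int.cast : ℤ → ℚ) = (e : ℚ) • (wm u).map (Int.cast : ℤ → ℚ) := by
        ext i j; rw [Matrix.map_apply, Matrix.smul_apply, Matrix.smul_apply, Matrix.map_apply, smul_eq_mul, smul_eq_mul, Int.cast_mul]
      ext x
      rw [Module.End.mem_eigenspace_iff, Module.End.mem_eigenspace_iff, hm, map_smul,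
        LinearMap.smul_apply, one_smul]
      have h2 : (e : ℚ) * e = 1 := by exact_mod_cast he2
      constructor <;> intro h
      · conv_rhs => rw [← h]
        rw [smul_smul, h2, one_smul]
      · rw [h, smul_smul, h2, one_smul]
    rw [heq]
    refine (LinearMap.finrank_eigenspace_le _ _).trans ?_
    rw [Matrix.charpoly_toLin', hchar,
      Polynomial.rootMultiplicity_mul (mul_ne_zero hq (Polynomial.X_sub_C_ne_zero _)),
      Polynomial.rootMultiplicity_X_sub_C_self, Polynomial.rootMultiplicity_eq_zero hX]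

end Cfsg.Agent.E7SixtyFive
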