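import Mathlib

/-!
Integer matrices of finite order in dimension seven having eigenvalues of order twelve modulo
thirteen and of order four modulo five.
-/

set_option autoImplicit false

namespace Cfsg.Agent.E7SixtyFive

open Polynomial Matrix

variable {n : Type*} [Fintype n] [DecidableEq n]

theorem aeval_mulVec_of_eigen {R : Type*} [CommRing R] {A : Matrix n n R} {v : n → R} {x : R}
    (h : A *ᵥ v = x • v) (f : R[X]) : (aeval A f) *ᵥ v = f.eval x • v := by
  induction f using Polynomial.induction_on' with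
  | add f g hf hg => rw [map_add, Matrix.add_mulVec, hf, hg, eval_add, add_smul]
  | monomial k a =>
    have hk : ∀ k : ℕ, (A ^ k) *ᵥ v = x ^ k • v := by
      intro k
      induction k with
      | zero => simp
      | succ k ih =>
        rw [pow_succ, ← Matrix.mulVec_mulVec, h, Matrix.mulVec_smul, ih, smul_smul, pow_succ']
    rw [aeval_monomial, eval_monomial, Algebra.algebraMap_eq_smul_one, smul_mul_assoc, one_mul,
      Matrix.smul_mulVec, hk, smul_smul]

/-- The cyclotomic factor attached to an eigenvalue modulo a prime. -/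
theorem exists_cyclotomic_dvd (M : Matrix n n ℤ) {N : ℕ} (hN : 0 < N) (hM : M ^ N = 1)
    (s : ℕ) [Fact s.Prime] {x : ZMod s} {v : n → ZMod s} (hv : v ≠ 0)
    (h : (M.map (Int.cast : ℤ → ZMod s)) *ᵥ v = x • v) :
    ∃ k : ℕ, cyclotomic (s ^ k * orderOf x) ℚ ∣ (M.map (Int.cast : ℤ → ℚ)).charpoly := by
  classical
  set Q : Matrix n n ℚ := (Int.castRingHom ℚ).mapMatrix M with hQ
  set μ := minpoly ℚ Q
  set S := N.divisors.filter fun d => cyclotomic d ℚ ∣ μ with hS
  set g : ℤ[X] := ∏ d ∈ S, cyclotomic d ℤ with hg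
  have hgQ : g.map (Int.castRingHom ℚ) = ∏ d ∈ S, cyclotomic d ℚ := by
    rw [hg, Polynomial.map_prod]
    exact Finset.prod_congr rfl fun d _ => map_cyclotomic d _
  have hμN : μ ∣ X ^ N - 1 := by
    refine minpoly.dvd ℚ Q ?_
    rw [map_sub, map_pow, aeval_X, map_one, hQ, ← map_pow, hM, map_one, sub_self]
  have hμg : μ ∣ g.map (Int.castRingHom ℚ) := by
    rw [← prod_cyclotomic_eq_X_pow_sub_one hN ℚ,
      ← Finset.prod_sdiff (Finset.filter_subset (fun d => cyclotomic d ℚ ∣ μ) _)] at hμN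
    rw [hgQ]
    refine IsCoprime.dvd_of_dvd_mul_left (IsCoprime.prod_right fun d hd => ?_) hμN
    rw [Finset.mem_sdiff, Finset.mem_filter] at hd
    exact ((cyclotomic.irreducible_rat (Nat.pos_of_mem_divisors hd.1)).coprime_iff_not_dvd.2
      fun hd' => hd.2 ⟨hd.1, hd'⟩).symm
  have hgM : aeval M g = 0 := by
    obtain ⟨r, hr⟩ := hμg
    refine (Matrix.map_injective (f := Int.castRingHom ℚ) Int.cast_injective) ?_
    show (Int.castRingHom ℚ).mapMatrix (aeval M g) = (Int.castRingHom ℚ).mapMatrix 0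
    rw [map_zero, map_aeval_eq_aeval_map (S := Matrix n n ℤ) (T := ℚ) (U := Matrix n n ℚ)
      (φ := Int.castRingHom ℚ)
      (ψ := (Int.castRingHom ℚ).mapMatrix) (RingHom.ext_int _ _), ← hQ, hr, map_mul,
      minpoly.aeval, zero_mul]
  have hev : (g.map (Int.castRingHom (ZMod s))).eval x = 0 := by
    have e := aeval_mulVec_of_eigen h (g.map (Int.castRingHom (ZMod s)))
    have e' : aeval (M.map (Int.cast : ℤ → ZMod s)) (g.map (Int.castRingHom (ZMod s))) = 0 := by
      have := map_aeval_eq_aeval_map (S := Matrix n n ℤ) (T := ZMod s) (U := Matrix n n (ZMod s))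
        (φ := Int.castRingHom (ZMod s)) (ψ := (Int.castRingHom (ZMod s)).mapMatrix)
        (RingHom.ext_int _ _) g M
      rw [hgM, map_zero] at this
      exact this.symm
    rw [e', Matrix.zero_mulVec] at e
    exact (smul_eq_zero.1 e.symm).resolve_right hv
  rw [hg, Polynomial.map_prod, eval_prod, Finset.prod_eq_zero_iff] at hev
  obtain ⟨d, hd, hroot⟩ := hev
  rw [map_cyclotomic] at hroot
  rw [hS, Finset.mem_filter] at hd
  obtain ⟨k, m, hm, rfl⟩ := Nat.exists_eq_pow_mul_and_not_dvd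
    (Nat.pos_of_mem_divisors hd.1).ne' s (Fact.out : s.Prime).ne_one
  haveI : NeZero (m : ZMod s) := ⟨fun h0 => hm ((ZMod.natCast_eq_zero_iff m s).1 h0)⟩
  have hx : IsPrimitiveRoot x m :=
    (isRoot_cyclotomic_prime_pow_mul_iff_of_charP (p := s) (k := k)).1 hroot
  exact ⟨k, hx.eq_orderOf ▸ hd.2.trans (Matrix.minpoly_dvd_charpoly Q)⟩

theorem orderOf_seven : orderOf (7 : ZMod 13) = 12 :=
  (orderOf_eq_iff (by norm_num)).2 (by decide)

theorem orderOf_three : orderOf (3 : ZMod 5) = 4 :=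
  (orderOf_eq_iff (by norm_num)).2 (by decide)

/-- The shape of the characteristic polynomial. -/
theorem exists_sign (M : Matrix (Fin 7) (Fin 7) ℤ) {N : ℕ} (hN : 0 < N) (hM : M ^ N = 1)
    {v : Fin 7 → ZMod 13} (hv : v ≠ 0)
    (h : (M.map (Int.cast : ℤ → ZMod 13)) *ᵥ v = (7 : ZMod 13) • v)
    {w : Fin 7 → ZMod 5} (hw : w ≠ 0)
    (h' : (M.map (Int.cast : ℤ → ZMod 5)) *ᵥ w = (3 : ZMod 5) • w) :
    ∃ e : ℤ, (e = 1 ∨ e = -1) ∧ M.det = e ∧
      (M.map (Int.cast : ℤ → ℚ)).charpoly = (X ^ 6 + 1) * (X - C (e : ℚ)) := by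
  haveI : Fact (Nat.Prime 13) := ⟨by norm_num⟩
  haveI : Fact (Nat.Prime 5) := ⟨by norm_num⟩
  set Q : Matrix (Fin 7) (Fin 7) ℚ := M.map (Int.cast : ℤ → ℚ) with hQ
  have hdeg : Q.charpoly.natDegree = 7 := by simp [Matrix.charpoly_natDegree_eq_dim]
  have hne : Q.charpoly ≠ 0 := Q.charpoly_monic.ne_zero
  obtain ⟨k, hk⟩ := exists_cyclotomic_dvd M hN hM 13 hv h
  obtain ⟨l, hl⟩ := exists_cyclotomic_dvd M hN hM 5 hw h'
  rw [← hQ, orderOf_seven] at hk
  rw [← hQ, orderOf_three] at hl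
  have hb1 := (natDegree_le_of_dvd hk hne).trans_eq hdeg
  have hb2 := (natDegree_le_of_dvd hl hne).trans_eq hdeg
  rw [natDegree_cyclotomic] at hb1 hb2
  obtain rfl : k = 0 := by
    by_contra h0
    obtain ⟨j, rfl⟩ : ∃ j, k = j + 1 := ⟨k - 1, by omega⟩
    rw [Nat.totient_mul ((show Nat.Coprime 13 12 by norm_num).pow_left _),
      Nat.totient_prime_pow_succ (by norm_num : Nat.Prime 13)] at hb1
    rw [show Nat.totient 12 = 4 by decide] at hb1
    have := Nat.one_le_pow j 13 (by norm_num)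
    omega
  obtain rfl : l = 0 := by
    by_contra h0
    obtain ⟨j, rfl⟩ : ∃ j, l = j + 1 := ⟨l - 1, by omega⟩
    rw [Nat.totient_mul ((show Nat.Coprime 5 4 by norm_num).pow_left _),
      Nat.totient_prime_pow_succ (by norm_num : Nat.Prime 5)] at hb2
    rw [show Nat.totient 4 = 2 by decide] at hb2
    have := Nat.one_le_pow j 5 (by norm_num)
    omega
  rw [pow_zero, one_mul] at hk hl
  have hcop : IsCoprime (cyclotomic 12 ℚ) (cyclotomic 4 ℚ) :=
    cyclotomic.isCoprime_rat (by norm_num)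
  have hprod : cyclotomic 12 ℚ * cyclotomic 4 ℚ = X ^ 6 + 1 := by
    have h12 := prod_cyclotomic_eq_X_pow_sub_one (show 0 < 12 by norm_num) ℚ
    have h6 := prod_cyclotomic_eq_X_pow_sub_one (show 0 < 6 by norm_num) ℚ
    rw [show Nat.divisors 12 = {12, 4, 6, 3, 2, 1} by decide] at h12
    rw [show Nat.divisors 6 = {6, 3, 2, 1} by decide] at h6
    simp only [Finset.prod_insert, Finset.mem_insert, Finset.mem_singleton, Finset.prod_singleton,
      OfNat.ofNat_ne_one, not_false_eq_true, or_false, false_or,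
      show (12 : ℕ) ≠ 4 by norm_num, show (12 : ℕ) ≠ 6 by norm_num, show (12 : ℕ) ≠ 3 by norm_num,
      show (12 : ℕ) ≠ 2 by norm_num, show (4 : ℕ) ≠ 6 by norm_num, show (4 : ℕ) ≠ 3 by norm_num,
      show (4 : ℕ) ≠ 2 by norm_num, show (6 : ℕ) ≠ 3 by norm_num, show (6 : ℕ) ≠ 2 by norm_num,
      show (3 : ℕ) ≠ 2 by norm_num] at h12 h6
    rw [h6] at h12
    have hx : (X ^ 6 - 1 : ℚ[X]) ≠ 0 := (monic_X_pow_sub_C (1 : ℚ) (by norm_num)).ne_zero
    exact mul_right_cancel₀ hx (by linear_combination h12)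
  obtain ⟨r, hr⟩ := hcop.mul_dvd hk hl
  rw [hprod] at hr
  have hmon : (X ^ 6 + 1 : ℚ[X]).Monic := monic_X_pow_add_C (1 : ℚ) (by norm_num)
  have hrmon : r.Monic := hmon.of_mul_monic_left (hr ▸ Q.charpoly_monic)
  have hd6 : (X ^ 6 + 1 : ℚ[X]).natDegree = 6 := natDegree_X_pow_add_C (r := (1 : ℚ))
  have hr1 : r.natDegree = 1 := by
    have h7 := congrArg natDegree hr
    rw [hdeg, hmon.natDegree_mul hrmon, hd6] at h7
    omega
  obtain ⟨e, rfl⟩ : ∃ e, r = X - C e :=
    ⟨-r.coeff 0, by rw [C_neg, sub_neg_eq_add]; exact hrmon.eq_X_add_C hr1⟩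
  have hdet : Q.det = e := by
    rw [Matrix.det_eq_sign_charpoly_coeff, hr, coeff_zero_eq_eval_zero]
    simp [pow_succ]
  have he : (M.det : ℚ) = e := by rw [← hdet, hQ, Int.cast_det]
  refine ⟨M.det, ?_, rfl, by rw [hr, he]⟩
  exact Int.isUnit_iff.1 (IsUnit.of_pow_eq_one (by rw [← Matrix.det_pow, hM, Matrix.det_one]) hN.ne')

end Cfsg.Agent.E7SixtyFive
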